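import Cfsg.Agent.Lib.TICent.Chars

/-!
# The TI norm inequality and induced differences of norm two
-/

set_option linter.unusedSectionVars false
set_option linter.style.haveILetI false

namespace Cfsg.Agent.TICent

open Cfsg Cfsg.Agent.Char
open scoped ComplexConjugate Classical

universe u

variable {G : Type u} [Group G] [Fintype G] {p : ℕ} [Fact p.Prime] {P : Sylow p G}

/-- Restriction of a function to the centralizer. -/
def res (P : Sylow p G) (χ : G → ℂ) : cen P → ℂ := fun c => χ (c : G)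

/-- The multiplicity of `ρ` in the restriction of `χ`, as a natural number. -/
noncomputable def nm (χ : G → ℂ) (ρ : IrrCharacter (cen P)) : ℕ :=
  ⌊(classInner (res P χ) ρ.1).re⌋₊

theorem nm_spec {χ : G → ℂ} (hχ : IsCharacter G χ) (ρ : IrrCharacter (cen P)) :
    classInner (res P χ) ρ.1 = (nm χ ρ : ℂ) := by
  obtain ⟨n, hn⟩ := IsCharacter.exists_nat_classInner (IsCharacter.restrict hχ (cen P))
    (irr_isCharacter ρ)
  have hn' : classInner (res P χ) ρ.1 = (n : ℂ) := hn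
  rw [nm, hn', Complex.natCast_re, Nat.floor_natCast]

theorem res_eq_sum {χ : G → ℂ} (hχ : IsCharacter G χ) :
    res P χ = ∑ ρ : IrrCharacter (cen P), (nm χ ρ : ℂ) • ρ.1 := by
  conv_lhs => rw [eq_sum_classInner_smul (f := res P χ)
    (IsCharacter.isClassFunction (IsCharacter.restrict hχ (cen P)))]
  simp only [nm_spec hχ]

theorem apply_eq_sum {χ : G → ℂ} (hχ : IsCharacter G χ) (c : cen P) :
    χ (c : G) = ∑ ρ : IrrCharacter (cen P), (nm χ ρ : ℂ) * ρ.1 c := by
  show res P χ c = _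
  rw [res_eq_sum hχ, Finset.sum_apply]
  rfl

theorem sum_nm_degree {χ : G → ℂ} (hχ : IsCharacter G χ) {d : ℕ} (hd : χ 1 = d) :
    ∑ ρ : IrrCharacter (cen P), nm χ ρ * degree ρ = d := by
  have h := apply_eq_sum hχ (1 : cen P)
  simp only [OneMemClass.coe_one, hd, apply_one_eq_degree] at h
  exact_mod_cast h.symm

theorem sum_nm_le {χ : G → ℂ} (hχ : IsCharacter G χ) {d : ℕ} (hd : χ 1 = d)
    (S : Finset (IrrCharacter (cen P))) : ∑ ρ ∈ S, nm χ ρ ≤ d := by
  rw [← sum_nm_degree (P := P) hχ hd]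
  refine le_trans ?_ (Finset.sum_le_univ_sum_of_nonneg (s := S) (fun _ => Nat.zero_le _))
  exact Finset.sum_le_sum fun ρ _ => Nat.le_mul_of_pos_right _ (degree_pos ρ)

theorem card_le_degree {χ : G → ℂ} (hχ : IsCharacter G χ) {d : ℕ} (hd : χ 1 = d)
    (S : Finset (IrrCharacter (cen P))) (h : ∀ ρ ∈ S, nm χ ρ ≠ 0) : S.card ≤ d := by
  refine le_trans ?_ (sum_nm_le hχ hd S)
  rw [Finset.card_eq_sum_ones]
  exact Finset.sum_le_sum fun ρ hρ => Nat.one_le_iff_ne_zero.2 (h ρ hρ)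

/-- The trivial character of the centralizer. -/
noncomputable abbrev one' (P : Sylow p G) : IrrCharacter (cen P) :=
  ⟨fun _ => 1, isIrrCharacter_one⟩

theorem lam_one (hs : Star P) : lam hs (one' P) = 1 :=
  MonoidHom.ext fun _ => div_self one_ne_zero

/-- A character either has `P` in its kernel, or a constituent on `C` non-trivial on `P`. -/
theorem exists_nontrivial_constituent (hs : Star P) {χ : G → ℂ} (hχ : IsCharacter G χ) :
    (∀ a ∈ (P : Subgroup G), χ a = χ 1) ∨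
      ∃ ρ : IrrCharacter (cen P), nm χ ρ ≠ 0 ∧ lam hs ρ ≠ 1 := by
  by_cases h : ∃ ρ : IrrCharacter (cen P), nm χ ρ ≠ 0 ∧ lam hs ρ ≠ 1
  · exact Or.inr h
  refine Or.inl fun a ha => ?_
  push Not at h
  have h1 := apply_eq_sum hχ (⟨a, le_cen hs ha⟩ : cen P)
  have h2 := apply_eq_sum hχ (1 : cen P)
  simp only [OneMemClass.coe_one] at h2
  rw [h2]
  refine h1.trans (Finset.sum_congr rfl fun ρ _ => ?_)
  by_cases hρ : nm χ ρ = 0
  · simp [hρ]
  · have := lam_spec hs ρ ⟨a, ha⟩ 1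
    rw [h ρ hρ, MonoidHom.one_apply, one_mul, mul_one] at this
    rw [this]

theorem nm_cj {χ : G → ℂ} (hχ : IsCharacter G χ) (x : nor P) (ρ : IrrCharacter (cen P)) :
    nm χ (cj x ρ) = nm χ ρ := by
  unfold nm
  congr 2
  simp only [classInner, cj_apply]
  congr 1
  refine Fintype.sum_equiv (Subgroup.normalizerMonoidHom (cen P) x⁻¹).toEquiv _ _ fun c => ?_
  show res P χ c * _ = res P χ (Subgroup.normalizerMonoidHom (cen P) x⁻¹ c) * _
  congr 1
  exact ((IsCharacter.isClassFunction hχ) (c : G) ((x⁻¹ : nor P) : G)).symm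

theorem nm_orb {χ : G → ℂ} (hχ : IsCharacter G χ) {ρ σ : IrrCharacter (cen P)}
    (h : σ ∈ orb ρ) : nm χ σ = nm χ ρ := by
  obtain ⟨x, -, rfl⟩ := Finset.mem_image.1 h
  exact nm_cj hχ x ρ

theorem sum_normSq_of_classInner {H : Type u} [Group H] [Fintype H] (f : H → ℂ) :
    ((∑ c : H, Complex.normSq (f c) : ℝ) : ℂ) = (Nat.card H : ℂ) * classInner f f := by
  rw [classInner, ← mul_assoc, mul_inv_cancel₀ Char.card_ne_zero, one_mul]
  push_cast
  exact Finset.sum_congr rfl fun c _ => (Complex.mul_conj _).symm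

theorem card_conj_fibre (hs : Star P) (y : G) :
    (Finset.univ.filter fun xs : G × {c : cen P // c ∉ creg P} =>
      xs.1 * (xs.2.1 : G) * xs.1⁻¹ = y).card ≤ Nat.card (nor P) := by
  rcases Finset.eq_empty_or_nonempty (Finset.univ.filter fun xs : G × {c : cen P // c ∉ creg P} =>
      xs.1 * (xs.2.1 : G) * xs.1⁻¹ = y) with h | ⟨⟨x₀, s₀⟩, h₀⟩
  · rw [h]; simp
  simp only [Finset.mem_filter, Finset.mem_univ, true_and] at h₀
  rw [Nat.card_eq_fintype_card, ← Finset.card_univ]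
  refine Finset.card_le_card_of_injOn (fun xs => if h : x₀⁻¹ * xs.1 ∈ nor P then ⟨_, h⟩ else 1)
    (fun _ _ => Finset.mem_univ _) ?_
  rintro ⟨x, s⟩ hx ⟨x', s'⟩ hx' he
  simp only [Finset.coe_filter, Finset.mem_univ, true_and, Set.mem_ofPred_eq] at hx hx'
  have key : ∀ (x : G) (s : {c : cen P // c ∉ creg P}), x * (s.1 : G) * x⁻¹ = y →
      x₀⁻¹ * x ∈ nor P := by
    intro x s hy
    refine ti hs s.2 ?_
    have : x₀⁻¹ * x * (s.1 : G) * (x₀⁻¹ * x)⁻¹ = s₀.1 := by
      calc _ = x₀⁻¹ * (x * (s.1 : G) * x⁻¹) * x₀ := by group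
        _ = _ := by rw [hy, ← h₀]; group
    rw [this]
    exact s₀.1.2
  simp only [dif_pos (key x s hx), dif_pos (key x' s' hx'), Subtype.mk.injEq] at he
  have hxx : x = x' := mul_left_cancel he
  subst hxx
  rw [← hx'] at hx
  have : (s.1 : G) = s'.1 := mul_left_cancel (mul_right_cancel hx)
  exact Prod.ext rfl (Subtype.ext (Subtype.ext this))

/-- The norm inequality: the conjugates of `C` minus its regular part are disjoint. -/
theorem sum_normSq_lt (hs : Star P) (η : IrrCharacter G) :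
    ∑ s : {c : cen P // c ∉ creg P}, Complex.normSq (η.1 (s.1 : G)) <
      (Nat.card (nor P) : ℝ) := by
  have hG : (0 : ℝ) < Nat.card G := Nat.cast_pos.2 Nat.card_pos
  have h1 : ∑ y : G, Complex.normSq (η.1 y) = (Nat.card G : ℝ) := by
    apply Complex.ofReal_injective
    rw [sum_normSq_of_classInner, classInner_irr_self η.2, mul_one, Complex.ofReal_natCast]
  have h2 : (Nat.card G : ℝ) * ∑ s : {c : cen P // c ∉ creg P}, Complex.normSq (η.1 (s.1 : G)) =
      ∑ y : G, ((Finset.univ.filter fun xs : G × {c : cen P // c ∉ creg P} =>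
        xs.1 * (xs.2.1 : G) * xs.1⁻¹ = y).card : ℝ) * Complex.normSq (η.1 y) := by
    have e : (Nat.card G : ℝ) * ∑ s : {c : cen P // c ∉ creg P}, Complex.normSq (η.1 (s.1 : G)) =
        ∑ xs : G × {c : cen P // c ∉ creg P}, Complex.normSq (η.1 (xs.2.1 : G)) := by
      rw [Fintype.sum_prod_type]
      dsimp only
      rw [Finset.sum_const, Finset.card_univ, nsmul_eq_mul, Nat.card_eq_fintype_card]
    rw [e, ← Finset.sum_fiberwise Finset.univ (fun xs : G × {c : cen P // c ∉ creg P} =>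
        xs.1 * (xs.2.1 : G) * xs.1⁻¹) (fun xs => Complex.normSq (η.1 (xs.2.1 : G)))]
    refine Finset.sum_congr rfl fun y _ => ?_
    · rw [← nsmul_eq_mul, ← Finset.sum_const]
      refine Finset.sum_congr rfl fun xs hxs => ?_
      rw [← (Finset.mem_filter.1 hxs).2,
        IsCharacter.isClassFunction (irr_isCharacter η) (xs.2.1 : G) xs.1]
  have h1' : (Finset.univ.filter fun xs : G × {c : cen P // c ∉ creg P} =>
      xs.1 * (xs.2.1 : G) * xs.1⁻¹ = 1).card = 0 := by
    rw [Finset.card_eq_zero, Finset.filter_eq_empty_iff]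
    intro xs _ he
    refine xs.2.2 ((mem_creg hs).2 ?_)
    rw [← orderOf_conj xs.1, he, orderOf_one]
    exact (Fact.out : p.Prime).not_dvd_one
  have hpos : (0 : ℝ) < Complex.normSq (η.1 1) :=
    Complex.normSq_pos.2 (IsIrrCharacter.apply_one_ne_zero η.2)
  have hN : (0 : ℝ) < Nat.card (nor P) := Nat.cast_pos.2 Nat.card_pos
  have h3 : (Nat.card G : ℝ) * ∑ s : {c : cen P // c ∉ creg P}, Complex.normSq (η.1 (s.1 : G)) <
      (Nat.card (nor P) : ℝ) * Nat.card G := by
    rw [h2, ← h1, Finset.mul_sum]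
    refine Finset.sum_lt_sum (fun y _ => ?_) ⟨1, Finset.mem_univ _, ?_⟩
    · exact mul_le_mul_of_nonneg_right (Nat.cast_le.2 (card_conj_fibre hs y))
        (Complex.normSq_nonneg _)
    · rw [h1', Nat.cast_zero, zero_mul]
      exact mul_pos hN hpos
  rw [mul_comm] at h3
  exact lt_of_mul_lt_mul_right h3 hG.le

theorem sum_nm_sq_le (hs : Star P) (η : IrrCharacter G) {f : ℕ} (hf : η.1 1 = f)
    (hfq : f ^ 2 < Nat.card (P : Subgroup G)) {t : ℕ}
    (ht : t * Nat.card (cen P) = Nat.card (nor P)) :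
    ∑ ρ : IrrCharacter (cen P), nm η.1 ρ ^ 2 ≤ t := by
  have hχ := irr_isCharacter η
  set A := ∑ ρ : IrrCharacter (cen P), nm η.1 ρ ^ 2 with hA
  have h1 : classInner (res P η.1) (res P η.1) = (A : ℂ) := by
    rw [classInner_eq_sum (f := res P η.1)
      (IsCharacter.isClassFunction (IsCharacter.restrict hχ (cen P))), hA, Nat.cast_sum]
    refine Finset.sum_congr rfl fun ρ _ => ?_
    rw [← conj_classInner (res P η.1) ρ.1, nm_spec hχ, map_natCast, Nat.cast_pow, sq]
  have h2 : ∑ c : cen P, Complex.normSq (η.1 (c : G)) = (Nat.card (cen P) : ℝ) * (A : ℝ) := by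
    apply Complex.ofReal_injective
    rw [show (fun c : cen P => Complex.normSq (η.1 (c : G))) =
      fun c => Complex.normSq (res P η.1 c) from rfl, sum_normSq_of_classInner, h1]
    push_cast
    rfl
  have h3 : ∑ c : {c : cen P // c ∈ creg P}, Complex.normSq (η.1 (c.1 : G)) ≤
      (Nat.card (creg P) : ℝ) * (f : ℝ) ^ 2 := by
    rw [Nat.card_eq_fintype_card, ← Finset.card_univ, ← nsmul_eq_mul, ← Finset.sum_const]
    refine Finset.sum_le_sum fun c _ => ?_
    rw [Complex.normSq_eq_norm_sq]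
    have h := CharInt.norm_char_le hχ (c.1 : G)
    rw [hf, Complex.norm_natCast] at h
    exact pow_le_pow_left₀ (norm_nonneg _) h 2
  have h4 := Fintype.sum_subtype_add_sum_subtype (fun c : cen P => c ∈ creg P)
    (fun c => Complex.normSq (η.1 (c : G)))
  have h5 := sum_normSq_lt hs η
  rw [← ht, Nat.cast_mul] at h5
  have hq : (Nat.card (cen P) : ℝ) = Nat.card (creg P) * Nat.card (P : Subgroup G) := by
    exact_mod_cast card_cen_eq hs
  have hfq' : (f : ℝ) ^ 2 < (Nat.card (P : Subgroup G) : ℝ) := by exact_mod_cast hfq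
  have hC : (0 : ℝ) < Nat.card (creg P) := Nat.cast_pos.2 Nat.card_pos
  have h6 : (Nat.card (cen P) : ℝ) * A < (Nat.card (cen P) : ℝ) * ((t : ℝ) + 1) := by
    rw [← h2, ← h4]
    nlinarith [h3, h5, mul_lt_mul_of_pos_left hfq' hC]
  have h7 : (A : ℝ) < (t : ℝ) + 1 := lt_of_mul_lt_mul_left h6 (Nat.cast_nonneg _)
  have : A < t + 1 := by exact_mod_cast h7
  omega

/-- An irreducible character of small degree restricts to `C` as a single orbit. -/
theorem nm_eq_of_small (hs : Star P) (η : IrrCharacter G) {f : ℕ} (hf : η.1 1 = f)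
    (hfq : f ^ 2 < Nat.card (P : Subgroup G)) {ξ : IrrCharacter (cen P)}
    (hξ : nm η.1 ξ ≠ 0) (hl : lam hs ξ ≠ 1) (ρ : IrrCharacter (cen P)) :
    nm η.1 ρ = if ρ ∈ orb ξ then 1 else 0 := by
  have h := sum_nm_sq_le hs η hf hfq (card_orb_mul hs hl)
  rw [← Finset.sum_filter_add_sum_filter_not Finset.univ (· ∈ orb ξ)] at h
  simp only [Finset.filter_univ_mem] at h
  have h1 : ∀ σ ∈ orb ξ, nm η.1 σ ^ 2 = nm η.1 ξ ^ 2 := fun σ hσ => by
    rw [nm_orb (irr_isCharacter η) hσ]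
  rw [Finset.sum_congr rfl h1, Finset.sum_const, smul_eq_mul] at h
  have hc : 0 < (orb ξ).card := Finset.card_pos.2 ⟨ξ, mem_orb_self ξ⟩
  have hm : nm η.1 ξ ^ 2 = 1 := by
    have hp : 1 ≤ nm η.1 ξ ^ 2 := Nat.one_le_pow _ _ (Nat.pos_of_ne_zero hξ)
    by_contra hne
    have : (orb ξ).card * 2 ≤ (orb ξ).card * nm η.1 ξ ^ 2 := Nat.mul_le_mul_left _ (by omega)
    omega
  rw [hm, mul_one] at h
  split_ifs with hρ
  · rw [nm_orb (irr_isCharacter η) hρ]
    exact (Nat.pow_eq_one.1 hm).resolve_right two_ne_zero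
  · have h0 : ∑ x ∈ Finset.univ.filter (fun x => x ∉ orb ξ), nm η.1 x ^ 2 = 0 := by omega
    exact sq_eq_zero_iff.1
      ((Finset.sum_eq_zero_iff.1 h0) ρ (Finset.mem_filter.2 ⟨Finset.mem_univ _, hρ⟩))

/-! ### Induced differences -/

theorem indFun_apply_cen (hs : Star P) {φ : cen P → ℂ} (hφ : ∀ v ∈ creg P, φ v = 0) (c : cen P) :
    indFun (cen P) φ (c : G) = (Nat.card (cen P) : ℂ)⁻¹ *
      ∑ x : nor P, φ (Subgroup.normalizerMonoidHom (cen P) x⁻¹ c) := by
  simp only [indFun]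
  congr 1
  refine (Fintype.sum_of_injective (Subtype.val : nor P → G) Subtype.val_injective _ _ ?_ ?_).symm
  · intro x hx
    by_cases hm : x⁻¹ * (c : G) * x ∈ cen P
    · rw [extendByZero_of_mem _ _ hm]
      by_cases hc : c ∈ creg P
      · refine hφ _ ((mem_creg hs).2 ?_)
        show ¬ p ∣ orderOf (x⁻¹ * (c : G) * x)
        have := (mem_creg hs).1 hc
        rwa [← orderOf_conj x⁻¹, inv_inv] at this
      · exact absurd ((Subgroup.inv_mem_iff _).1 (ti hs hc (x := x⁻¹) (by rwa [inv_inv])))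
          (fun h => hx ⟨⟨x, h⟩, rfl⟩)
    · rw [extendByZero_of_notMem _ _ hm]
  · intro x
    rw [← extendByZero_coe (cen P) φ]
    congr 1
    rw [coe_normalizerHom, Subgroup.coe_inv, inv_inv]

theorem normalizerHom_mem_creg (hs : Star P) (x : nor P) {c : cen P} (hc : c ∈ creg P) :
    Subgroup.normalizerMonoidHom (cen P) x c ∈ creg P := by
  rw [mem_creg hs, coe_normalizerHom, orderOf_conj]
  exact (mem_creg hs).1 hc

theorem indFun_creg (hs : Star P) {φ : cen P → ℂ} (hφ : ∀ v ∈ creg P, φ v = 0) {c : cen P}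
    (hc : c ∈ creg P) : indFun (cen P) φ (c : G) = 0 := by
  rw [indFun_apply_cen hs hφ c, Finset.sum_eq_zero fun x _ =>
    hφ _ (normalizerHom_mem_creg hs x⁻¹ hc), mul_zero]

theorem classInner_indFun_cen (hs : Star P) (f : cen P → ℂ) {ξ κ : IrrCharacter (cen P)}
    (h : ∀ v ∈ creg P, ξ.1 v = κ.1 v) :
    classInner f (res P (indFun (cen P) (ξ.1 - κ.1))) =
      (Nat.card (cen P) : ℂ)⁻¹ *
        ∑ x : nor P, (classInner f (cj x ξ).1 - classInner f (cj x κ).1) := by
  have hφ : ∀ v ∈ creg P, (ξ.1 - κ.1) v = 0 := fun v hv => by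
    rw [Pi.sub_apply, h v hv, sub_self]
  have he : res P (indFun (cen P) (ξ.1 - κ.1)) =
      (Nat.card (cen P) : ℂ)⁻¹ • ∑ x : nor P, ((cj x ξ).1 - (cj x κ).1) := by
    funext c
    rw [res, indFun_apply_cen hs hφ c]
    simp [cj_apply]
  rw [he, classInner_smul_right, classInner_sum_right, map_inv₀, map_natCast]
  simp only [classInner_sub_right]

/-- `ξ - κ` for two characters in different orbits induces to a function of norm two. -/
theorem classInner_indFun_self (hs : Star P) {ξ κ : IrrCharacter (cen P)}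
    (h : ∀ v ∈ creg P, ξ.1 v = κ.1 v) (hξ : lam hs ξ ≠ 1) (hκ : lam hs κ ≠ 1)
    (hne : κ ∉ orb ξ) :
    classInner (indFun (cen P) (ξ.1 - κ.1)) (indFun (cen P) (ξ.1 - κ.1)) = 2 := by
  rw [classInner_indFun _ _ (isClassFunction_indFun _ _)]
  show classInner (ξ.1 - κ.1) (res P (indFun (cen P) (ξ.1 - κ.1))) = 2
  rw [classInner_indFun_cen hs _ h]
  have hterm : ∀ x : nor P, classInner (ξ.1 - κ.1) (cj x ξ).1 - classInner (ξ.1 - κ.1) (cj x κ).1
      = if (x : G) ∈ cen P then 2 else 0 := by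
    intro x
    simp only [classInner_sub_left, classInner_irr]
    have e2 : ¬ κ = cj x ξ := fun e => hne (e ▸ Finset.mem_image.2 ⟨x, Finset.mem_univ _, rfl⟩)
    have e3 : ¬ ξ = cj x κ := fun e => hne (Finset.mem_image.2
      ⟨x⁻¹, Finset.mem_univ _, by rw [e, ← cj_mul, inv_mul_cancel,
        cj_of_mem 1 (Subgroup.one_mem _)]⟩)
    by_cases hx : (x : G) ∈ cen P
    · rw [if_pos (cj_of_mem x hx ξ).symm, if_pos (cj_of_mem x hx κ).symm, if_neg e2, if_neg e3,
        if_pos hx]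
      norm_num
    · have e1 : ¬ ξ = cj x ξ := fun e => hx (mem_cen_of_cj_eq hs hξ e.symm)
      have e4 : ¬ κ = cj x κ := fun e => hx (mem_cen_of_cj_eq hs hκ e.symm)
      rw [if_neg e1, if_neg e4, if_neg e2, if_neg e3, if_neg hx]
      norm_num
  rw [Finset.sum_congr rfl fun x _ => hterm x, ← Finset.sum_filter, Finset.sum_const,
    nsmul_eq_mul, ← Fintype.card_subtype, ← Nat.card_eq_fintype_card,
    show Nat.card {x : nor P // (x : G) ∈ cen P} = Nat.card (cen P) from
      Nat.card_congr (Subgroup.subgroupOfEquivOfLe (cen_le_nor (P := P))).toEquiv, ← mul_assoc,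
    inv_mul_cancel₀ Char.card_ne_zero, one_mul]

theorem classInner_indFun_eq {χ : G → ℂ} (hχ : IsCharacter G χ)
    (ξ κ : IrrCharacter (cen P)) :
    classInner χ (indFun (cen P) (ξ.1 - κ.1)) = (nm χ ξ : ℂ) - (nm χ κ : ℂ) := by
  rw [classInner_indFun_right _ _ (IsCharacter.isClassFunction hχ)]
  show classInner (res P χ) (ξ.1 - κ.1) = _
  rw [classInner_sub_right, nm_spec hχ, nm_spec hχ]

theorem isGen_indFun (ξ κ : IrrCharacter (cen P)) :
    IsGeneralizedCharacter G (indFun (cen P) (ξ.1 - κ.1)) :=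
  isGeneralizedCharacter_indFun _ ⟨ξ.1, κ.1, irr_isCharacter ξ, irr_isCharacter κ, rfl⟩

theorem indFun_one_eq_zero (hs : Star P) {ξ κ : IrrCharacter (cen P)}
    (h : ∀ v ∈ creg P, ξ.1 v = κ.1 v) : indFun (cen P) (ξ.1 - κ.1) 1 = 0 := by
  rw [indFun_apply_one, Pi.sub_apply, h 1 (Subgroup.one_mem _), sub_self, mul_zero]

/-- A generalized character of norm two and degree zero: two coefficients, opposite. -/
theorem two_coeff {θ : G → ℂ} (hθ : IsGeneralizedCharacter G θ) (hn : classInner θ θ = 2)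
    (h1 : θ 1 = 0) {η : IrrCharacter G} (hη : classInner θ η.1 ≠ 0) :
    ∃ η' : IrrCharacter G, η' ≠ η ∧
      (θ = η.1 - η'.1 ∨ θ = η'.1 - η.1) ∧ η'.1 1 = η.1 1 ∧
      ∀ ν : IrrCharacter G, ν ≠ η → classInner θ ν.1 ≠ 0 → ν = η' := by
  obtain ⟨m, hm, hm'⟩ := IsGeneralizedCharacter.exists_decomp hθ
  have h2 : ∑ ν, m ν ^ 2 = 2 := by
    have := IsGeneralizedCharacter.classInner_self_eq_sum hm
    rw [hn] at this
    exact_mod_cast this.symm
  have hmη : m η ≠ 0 := fun h => hη (by rw [hm', h, Int.cast_zero])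
  have hnn : ∀ s : Finset (IrrCharacter G), 0 ≤ ∑ ν ∈ s, m ν ^ 2 := fun s =>
    Finset.sum_nonneg fun _ _ => sq_nonneg _
  obtain ⟨η', hne, hη'⟩ : ∃ η', η' ≠ η ∧ m η' ≠ 0 := by
    by_contra hcon
    push Not at hcon
    have hθ1 : θ = (m η : ℂ) • η.1 := by
      rw [hm]
      exact Finset.sum_eq_single η (fun ν _ hν => by rw [hcon ν hν, Int.cast_zero, zero_smul])
        (fun h => absurd (Finset.mem_univ _) h)
    rw [hθ1, Pi.smul_apply, smul_eq_mul] at h1
    exact IsIrrCharacter.apply_one_ne_zero η.2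
      ((mul_eq_zero.1 h1).resolve_left (Int.cast_ne_zero.2 hmη))
  rw [← Finset.add_sum_erase _ _ (Finset.mem_univ η),
    ← Finset.add_sum_erase _ _ (Finset.mem_erase.2 ⟨hne, Finset.mem_univ η'⟩)] at h2
  have ha : 1 ≤ m η ^ 2 := by nlinarith [Int.one_le_abs hmη, sq_abs (m η)]
  have hb : 1 ≤ m η' ^ 2 := by nlinarith [Int.one_le_abs hη', sq_abs (m η')]
  have hr := hnn ((Finset.univ.erase η).erase η')
  have hrest : ∑ ν ∈ (Finset.univ.erase η).erase η', m ν ^ 2 = 0 := by omega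
  have hz : ∀ ν, ν ≠ η → ν ≠ η' → m ν = 0 := fun ν h h' => sq_eq_zero_iff.1
    ((Finset.sum_eq_zero_iff_of_nonneg fun _ _ => sq_nonneg _).1 hrest ν
      (Finset.mem_erase.2 ⟨h', Finset.mem_erase.2 ⟨h, Finset.mem_univ _⟩⟩))
  have hθ2 : θ = (m η : ℂ) • η.1 + (m η' : ℂ) • η'.1 := by
    rw [hm, ← Finset.add_sum_erase _ _ (Finset.mem_univ η)]
    congr 1
    exact Finset.sum_eq_single η'
      (fun ν hν h' => by rw [hz ν (Finset.mem_erase.1 hν).1 h', Int.cast_zero, zero_smul])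
      (fun h => absurd (Finset.mem_erase.2 ⟨hne, Finset.mem_univ _⟩) h)
  have hdeg : (m η : ℂ) * η.1 1 + (m η' : ℂ) * η'.1 1 = 0 := by
    rw [hθ2] at h1; simpa using h1
  rw [apply_one_eq_degree, apply_one_eq_degree] at hdeg
  have hdeg' : m η * (degree η : ℤ) + m η' * (degree η' : ℤ) = 0 := by exact_mod_cast hdeg
  have hp := degree_pos η
  have hp' := degree_pos η'
  have s1 : m η ^ 2 = 1 := by omega
  have s2 : m η' ^ 2 = 1 := by omega
  refine ⟨η', hne, ?_, ?_, fun ν hν hνc => by_contra fun h => hνc (by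
    rw [hm', hz ν hν h, Int.cast_zero])⟩
  · rcases sq_eq_one_iff.1 s1 with e1 | e1 <;> rcases sq_eq_one_iff.1 s2 with e2 | e2 <;>
      rw [e1, e2] at hdeg'
    · omega
    · left; rw [hθ2, e1, e2]; simp [sub_eq_add_neg]
    · right; rw [hθ2, e1, e2]; simp [sub_eq_add_neg, add_comm]
    · omega
  · have : degree η' = degree η := by
      rcases sq_eq_one_iff.1 s1 with e1 | e1 <;> rcases sq_eq_one_iff.1 s2 with e2 | e2 <;>
        rw [e1, e2] at hdeg' <;> omega
    rw [apply_one_eq_degree, apply_one_eq_degree, this]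

end Cfsg.Agent.TICent
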