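import Cfsg.Agent.Lib.Char.Induction
import Cfsg.Agent.Lib.CharInt.Basic
import Cfsg.Agent.Lib.Transfer.Burnside
import Cfsg.Agent.Lib.Transfer.Residual
import Mathlib.GroupTheory.FiniteAbelian.Duality
import Mathlib.RingTheory.RootsOfUnity.AlgebraicallyClosed
import Mathlib.Analysis.Complex.Polynomial.Basic

/-!
# Abelian Sylow subgroups all of whose non-identity elements have the same centralizer

`C = C_G(P)` has a normal `p`-complement, `C` minus this complement is a TI set with normalizer
`N = N_G(C)`, and `N / C` acts semiregularly on the irreducible characters of `C` that are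
non-trivial on `P`.
-/

set_option linter.unusedSectionVars false
set_option linter.style.haveILetI false

namespace Cfsg.Agent.TICent

open Cfsg Cfsg.Agent.Char
open scoped ComplexConjugate Classical

universe u

variable {G : Type u} [Group G] [Fintype G] {p : ℕ} [Fact p.Prime]

/-- Every non-identity element of `P` has the same centralizer as `P`. -/
def Star (P : Sylow p G) : Prop :=
  ∀ x ∈ (P : Subgroup G), x ≠ 1 →
    Subgroup.centralizer ({x} : Set G) = Subgroup.centralizer ((P : Subgroup G) : Set G)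

/-- The centralizer of `P`. -/
abbrev cen (P : Sylow p G) : Subgroup G := Subgroup.centralizer ((P : Subgroup G) : Set G)

/-- The normalizer of the centralizer of `P`. -/
abbrev nor (P : Sylow p G) : Subgroup G := Subgroup.normalizer (cen P : Set G)

/-- The `p`-regular part of the centralizer of `P`. -/
abbrev creg (P : Sylow p G) : Subgroup (cen P) := Cfsg.pResidual p (cen P)

theorem orderOf_conj (x a : G) : orderOf (x * a * x⁻¹) = orderOf a := by
  rw [show x * a * x⁻¹ = MulAut.conj x a from rfl, MulEquiv.orderOf_eq]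

variable {P : Sylow p G}

theorem le_cen (hs : Star P) : (P : Subgroup G) ≤ cen P := by
  intro x hx
  by_cases h : x = 1
  · subst h; exact Subgroup.one_mem _
  · show x ∈ Subgroup.centralizer ((P : Subgroup G) : Set G)
    rw [← hs x hx h, Subgroup.mem_centralizer_singleton_iff]

theorem mem_of_pElem {x : G} (hx : x ∈ cen P) (h : ∃ k, orderOf x = p ^ k) :
    x ∈ (P : Subgroup G) := by
  obtain ⟨k, hk⟩ := h
  have hz : IsPGroup p (Subgroup.zpowers x) :=
    IsPGroup.of_card (n := k) (by rw [Nat.card_zpowers, hk])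
  have hn : Subgroup.zpowers x ≤ Subgroup.normalizer ((P : Subgroup G) : Set G) := by
    rw [Subgroup.zpowers_le]
    exact Subgroup.centralizer_le_normalizer _ hx
  have := P.is_maximal' (IsPGroup.to_sup_of_normal_left' P.isPGroup' hz hn) le_sup_left
  rw [← this]
  exact Subgroup.mem_sup_right (Subgroup.mem_zpowers x)

theorem orderOf_subtype_pElem (hs : Star P) {a : G} (ha : a ∈ (P : Subgroup G)) :
    ∃ k, orderOf a = p ^ k := by
  obtain ⟨k, hk⟩ := P.isPGroup' ⟨a, ha⟩
  obtain ⟨i, -, hi⟩ := (Nat.dvd_prime_pow (Fact.out : p.Prime)).1 (orderOf_dvd_of_pow_eq_one hk)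
  exact ⟨i, by rw [← hi, Subgroup.orderOf_mk]⟩

/-- `P` as a subgroup of its centralizer is central. -/
theorem central (hs : Star P) {a : G} (ha : a ∈ (P : Subgroup G)) (c : cen P) :
    a * (c : G) = (c : G) * a :=
  Subgroup.mem_centralizer_iff.1 c.2 a ha

theorem cen_hasNormalPComplement (hs : Star P) : Cfsg.HasNormalPComplement p (cen P) := by
  refine Transfer.hasNormalPComplement_of_normalizer_le_centralizer (P.subtype (le_cen hs)) ?_
  intro c _
  rw [Subgroup.mem_centralizer_iff]
  intro a ha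
  exact Subtype.ext (central hs (Subgroup.mem_subgroupOf.1 ha) c)

theorem mem_creg (hs : Star P) {c : cen P} : c ∈ creg P ↔ ¬ p ∣ orderOf (c : G) := by
  rw [Transfer.mem_pResidual_iff (cen_hasNormalPComplement hs), Nat.coprime_comm,
    (Fact.out : p.Prime).coprime_iff_not_dvd, Subgroup.orderOf_coe]

/-- The TI property. -/
theorem ti (hs : Star P) {c : cen P} (hc : c ∉ creg P) {x : G}
    (hx : x * (c : G) * x⁻¹ ∈ cen P) : x ∈ nor P := by
  obtain ⟨o, ho⟩ : p ∣ orderOf (c : G) := not_not.1 fun h => hc ((mem_creg hs).2 h)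
  have hopos : 0 < orderOf (c : G) := orderOf_pos _
  have ho0 : o ≠ 0 := fun h => by rw [h, mul_zero] at ho; omega
  set a := (c : G) ^ o with ha
  have hord : orderOf a = p := by
    rw [ha, orderOf_pow' _ ho0, ho, Nat.gcd_mul_left_left,
      Nat.mul_div_cancel _ (Nat.pos_of_ne_zero ho0)]
  have haC : a ∈ cen P := (cen P).pow_mem c.2 o
  have haP : a ∈ (P : Subgroup G) := mem_of_pElem haC ⟨1, by rw [hord, pow_one]⟩
  have hb : x * a * x⁻¹ = (x * (c : G) * x⁻¹) ^ o := by rw [conj_pow]
  have hbord : orderOf (x * a * x⁻¹) = p := by rw [orderOf_conj, hord]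
  have hbP : x * a * x⁻¹ ∈ (P : Subgroup G) :=
    mem_of_pElem (hb ▸ (cen P).pow_mem hx o) ⟨1, by rw [hbord, pow_one]⟩
  have hp1 : p ≠ 1 := (Fact.out : p.Prime).ne_one
  have ha1 : a ≠ 1 := fun h => hp1 (by rw [← hord, h, orderOf_one])
  have hb1 : x * a * x⁻¹ ≠ 1 := fun h => hp1 (by rw [← hbord, h, orderOf_one])
  rw [Subgroup.mem_normalizer_iff]
  intro h
  simp only [cen] at *
  rw [← hs a haP ha1]
  constructor
  · intro hh
    rw [hs a haP ha1, ← hs _ hbP hb1, Subgroup.mem_centralizer_singleton_iff]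
    rw [Subgroup.mem_centralizer_singleton_iff] at hh
    simp only [mul_assoc, inv_mul_cancel_left]
    rw [← mul_assoc h, hh, mul_assoc]
  · intro hh
    rw [hs a haP ha1, ← hs _ hbP hb1, Subgroup.mem_centralizer_singleton_iff] at hh
    rw [Subgroup.mem_centralizer_singleton_iff]
    simp only [mul_assoc, inv_mul_cancel_left] at hh
    have := mul_left_cancel hh
    rw [← mul_assoc, ← mul_assoc] at this
    exact mul_right_cancel this

theorem conj_mem_P (hs : Star P) {x a : G} (hx : x ∈ nor P) (ha : a ∈ (P : Subgroup G)) :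
    x * a * x⁻¹ ∈ (P : Subgroup G) := by
  refine mem_of_pElem ((Subgroup.mem_normalizer_iff.1 hx a).1 (le_cen hs ha)) ?_
  rw [orderOf_conj]
  exact orderOf_subtype_pElem hs ha

theorem mem_cen_of_fixed (hs : Star P) {x a : G} (ha : a ∈ (P : Subgroup G)) (ha1 : a ≠ 1)
    (h : x * a * x⁻¹ = a) : x ∈ cen P := by
  rw [show cen P = Subgroup.centralizer ({a} : Set G) from (hs a ha ha1).symm,
    Subgroup.mem_centralizer_singleton_iff]
  exact mul_inv_eq_iff_eq_mul.1 h

/-- An element of `N` outside `C` fixes no non-trivial character of `P`. -/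
theorem eq_one_of_fixed (hs : Star P) {x : G} (hx : x ∈ nor P) (hxC : x ∉ cen P)
    (lam : (P : Subgroup G) →* ℂ)
    (h : ∀ a : (P : Subgroup G), lam ⟨x * a * x⁻¹, conj_mem_P hs hx a.2⟩ = lam a)
    (a : (P : Subgroup G)) : lam a = 1 := by
  have hne : ∀ b : (P : Subgroup G), lam b ≠ 0 := fun b hb => by
    have h1 : lam b * lam b⁻¹ = 1 := by rw [← map_mul, mul_inv_cancel, map_one]
    rw [hb, zero_mul] at h1
    exact zero_ne_one h1
  let f : ↥(P : Subgroup G) → ↥(P : Subgroup G) := fun b =>
    b⁻¹ * ⟨x * b * x⁻¹, conj_mem_P hs hx b.2⟩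
  have hinj : Function.Injective f := by
    intro b d hbd
    have hbd' : (b : G)⁻¹ * (x * b * x⁻¹) = (d : G)⁻¹ * (x * d * x⁻¹) := congrArg Subtype.val hbd
    by_contra hne'
    refine hxC (mem_cen_of_fixed hs (Subgroup.mul_mem _ d.2 (Subgroup.inv_mem _ b.2))
      (fun h' => hne' (Subtype.ext (mul_inv_eq_one.1 h')).symm) ?_)
    calc x * ((d : G) * (b : G)⁻¹) * x⁻¹
          = (x * d * x⁻¹) * (x * b * x⁻¹)⁻¹ := by group
      _ = (x * d * x⁻¹) * ((b : G) * ((d : G)⁻¹ * (x * d * x⁻¹)))⁻¹ := by
          rw [← hbd', mul_inv_cancel_left]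
      _ = (d : G) * (b : G)⁻¹ := by group
  obtain ⟨b, hb⟩ := (Finite.injective_iff_surjective.1 hinj) a
  rw [← hb, map_mul, h b, ← map_mul, inv_mul_cancel, map_one]

section Cards

theorem card_pos_nor : 0 < Nat.card (nor P) := Nat.card_pos

theorem cen_le_nor : cen P ≤ nor P := Subgroup.le_normalizer

theorem not_dvd_card_creg (hs : Star P) : ¬ p ∣ Nat.card (creg P) :=
  Transfer.hasNormalPComplement_iff.1 (cen_hasNormalPComplement hs)

theorem card_cen_eq (hs : Star P) :
    Nat.card (cen P) = Nat.card (creg P) * Nat.card (P : Subgroup G) := by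
  have h : (creg P).IsComplement' ((P.subtype (le_cen hs) : Sylow p (cen P)) : Subgroup (cen P)) :=
    Transfer.isComplement'_pResidual _ (not_dvd_card_creg hs)
  rw [← h.card_mul_card, Sylow.coe_subtype,
    Nat.card_congr (Subgroup.subgroupOfEquivOfLe (le_cen hs)).toEquiv]

theorem index_creg (hs : Star P) : (creg P).index = Nat.card (P : Subgroup G) := by
  have h := (creg P).card_mul_index
  rw [card_cen_eq hs] at h
  exact Nat.eq_of_mul_eq_mul_left Nat.card_pos h

end Cards

end Cfsg.Agent.TICent
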