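import Cfsg.Agent.Lib.TICent.Basic

/-!
# Irreducible characters of the centralizer: central characters, twists, conjugates, orbits
-/

set_option linter.unusedSectionVars false
set_option linter.style.haveILetI false

namespace Cfsg.Agent.TICent

open Cfsg Cfsg.Agent.Char
open scoped ComplexConjugate Classical

universe u

variable {G : Type u} [Group G] [Fintype G] {p : ℕ} [Fact p.Prime] {P : Sylow p G}

/-- A central element acts as a scalar in an irreducible representation. -/
theorem irr_mul_central {H : Type u} [Group H] [Fintype H] {ξ : H → ℂ}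
    (hξ : IsIrrCharacter H ξ) {a : H} (ha : ∀ c : H, a * c = c * a) (c : H) :
    ξ (a * c) * ξ 1 = ξ a * ξ c := by
  obtain ⟨n, ρ, hρ, rfl⟩ := hξ
  haveI := hρ
  have hcl : IsClassFunction H (fun x => if x = a then (1 : ℂ) else 0) := fun g h => by
    have : h * g * h⁻¹ = a ↔ g = a := by
      rw [mul_inv_eq_iff_eq_mul, ha h]
      exact mul_left_cancel_iff
    simp only [this]
  obtain ⟨z, hz⟩ := exists_opSum_eq_smul hcl ρ
  have h1 : ρ a = z • (1 : Module.End ℂ (Fin n → ℂ)) := LinearMap.ext fun x => by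
    have := hz x
    simp [opSum_apply] at this
    simpa using this
  simp only [Representation.character, map_mul, map_one, h1, smul_mul_assoc, one_mul, map_smul,
    smul_eq_mul]
  ring

theorem centralC (hs : Star P) (a : (P : Subgroup G)) (c : cen P) :
    (⟨(a : G), le_cen hs a.2⟩ : cen P) * c = c * ⟨(a : G), le_cen hs a.2⟩ :=
  Subtype.ext (central hs a.2 c)

/-- The central character on `P` of an irreducible character of `C`. -/
noncomputable def lam (hs : Star P) (ξ : IrrCharacter (cen P)) : (P : Subgroup G) →* ℂ where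
  toFun a := ξ.1 ⟨(a : G), le_cen hs a.2⟩ / ξ.1 1
  map_one' := div_self (IsIrrCharacter.apply_one_ne_zero ξ.2)
  map_mul' a b := by
    have h := irr_mul_central ξ.2 (centralC hs a) ⟨(b : G), le_cen hs b.2⟩
    have h0 := IsIrrCharacter.apply_one_ne_zero ξ.2
    rw [show (⟨((a * b : (P : Subgroup G)) : G), le_cen hs (a * b).2⟩ : cen P) =
      ⟨(a : G), le_cen hs a.2⟩ * ⟨(b : G), le_cen hs b.2⟩ from Subtype.ext rfl]
    field_simp
    linear_combination h

theorem lam_spec (hs : Star P) (ξ : IrrCharacter (cen P)) (a : (P : Subgroup G)) (c : cen P) :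
    ξ.1 (⟨(a : G), le_cen hs a.2⟩ * c) = lam hs ξ a * ξ.1 c := by
  have h := irr_mul_central ξ.2 (centralC hs a) c
  have h0 := IsIrrCharacter.apply_one_ne_zero ξ.2
  show _ = ξ.1 _ / ξ.1 1 * _
  field_simp
  linear_combination h

theorem hom_mul_conj {H : Type*} [Group H] [Finite H] (l : H →* ℂ) (a : H) :
    l a * conj (l a) = 1 := by
  rw [IsCharacter.conj_apply (IsIrrCharacter.isCharacter (isIrrCharacter_of_monoidHom l)) a,
    ← map_mul, mul_inv_cancel, map_one]

/-- Functions with different eigenvalues for a translation are orthogonal. -/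
theorem orth_of_scalar {H : Type u} [Group H] [Fintype H] {f g : H → ℂ} {a : H} {α β : ℂ}
    (hf : ∀ c, f (a * c) = α * f c) (hg : ∀ c, g (a * c) = β * g c) (hβ : β * conj β = 1)
    (hαβ : α ≠ β) : classInner f g = 0 := by
  have h : classInner f g = α * conj β * classInner f g := by
    conv_lhs => rw [classInner, ← Equiv.sum_comp (Equiv.mulLeft a)]
    simp only [classInner, Equiv.coe_mulLeft, hf, hg, map_mul, Finset.mul_sum]
    exact Finset.sum_congr rfl fun c _ => by ring
  by_contra hne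
  refine hαβ ?_
  have : α * conj β = 1 := mul_right_cancel₀ hne (h.symm.trans (one_mul _).symm)
  calc α = α * (β * conj β) := by rw [hβ, mul_one]
    _ = β := by rw [mul_left_comm, this, mul_one]

theorem classInner_eq_zero_of_lam_ne (hs : Star P) {ξ κ : IrrCharacter (cen P)}
    (h : lam hs ξ ≠ lam hs κ) : classInner ξ.1 κ.1 = 0 :=
  classInner_irr_of_ne ξ.2 κ.2 fun e => h (by rw [Subtype.ext e])

/-! ### Twists by linear characters trivial on the regular part -/

/-- The linear characters of `C` trivial on the `p`-regular part. -/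
abbrev Tw (P : Sylow p G) : Type u := {l : cen P →* ℂ // ∀ v ∈ creg P, l v = 1}

theorem surjective_mk (hs : Star P) : Function.Surjective
    (fun a : (P : Subgroup G) => ((⟨(a : G), le_cen hs a.2⟩ : cen P) : cen P ⧸ creg P)) := by
  haveI : (creg P).Normal := Transfer.pResidual_normal p
  have hinj : Function.Injective
      (fun a : (P : Subgroup G) => ((⟨(a : G), le_cen hs a.2⟩ : cen P) : cen P ⧸ creg P)) := by
    intro a b hab
    have h : (⟨((a⁻¹ * b : (P : Subgroup G)) : G), le_cen hs (a⁻¹ * b).2⟩ : cen P) ∈ creg P :=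
      QuotientGroup.eq.1 hab
    have h' : ¬ p ∣ orderOf ((a⁻¹ * b : (P : Subgroup G)) : G) := (mem_creg hs).1 h
    obtain ⟨k, hk⟩ := orderOf_subtype_pElem hs (a⁻¹ * b).2
    rw [hk] at h'
    have hk0 : k = 0 := by
      by_contra hk0
      exact h' (dvd_pow_self p hk0)
    rw [hk0, pow_zero, orderOf_eq_one_iff] at hk
    exact (inv_mul_eq_one.1 (Subtype.ext hk))
  refine (Nat.bijective_iff_injective_and_card _).2 ⟨hinj, ?_⟩ |>.2
  rw [← Subgroup.index_eq_card, index_creg hs]

theorem Tw.ext_P (hs : Star P) {l l' : Tw P}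
    (h : ∀ a : (P : Subgroup G), l.1 ⟨(a : G), le_cen hs a.2⟩ = l'.1 ⟨(a : G), le_cen hs a.2⟩) :
    l = l' := by
  refine Subtype.ext (MonoidHom.ext fun c => ?_)
  obtain ⟨a, ha⟩ := surjective_mk hs (c : cen P ⧸ creg P)
  have hv := QuotientGroup.eq.1 ha
  rw [← mul_inv_cancel_left (⟨(a : G), le_cen hs a.2⟩ : cen P) c,
    MonoidHom.map_mul l.1 _ ((⟨(a : G), le_cen hs a.2⟩ : cen P)⁻¹ * c),
    MonoidHom.map_mul l'.1 _ ((⟨(a : G), le_cen hs a.2⟩ : cen P)⁻¹ * c), h a,
    l.2 _ hv, l'.2 _ hv]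

theorem card_tw (hs : Star P) : Nat.card (Tw P) = Nat.card (P : Subgroup G) := by
  haveI : (creg P).Normal := Transfer.pResidual_normal p
  letI : CommGroup (cen P ⧸ creg P) :=
    { (inferInstance : Group (cen P ⧸ creg P)) with
      mul_comm := fun x y => by
        obtain ⟨a, rfl⟩ := surjective_mk hs x
        obtain ⟨b, rfl⟩ := surjective_mk hs y
        simp only [← QuotientGroup.mk_mul]
        exact congrArg _ (centralC hs a _) }
  haveI : NeZero (Monoid.exponent (cen P ⧸ creg P)) := ⟨Monoid.exponent_ne_zero_of_finite⟩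
  haveI : NeZero ((Monoid.exponent (cen P ⧸ creg P) : ℕ) : ℂ) :=
    ⟨Nat.cast_ne_zero.2 Monoid.exponent_ne_zero_of_finite⟩
  rw [← index_creg hs, Subgroup.index_eq_card,
    ← CommGroup.card_monoidHom_of_hasEnoughRootsOfUnity (cen P ⧸ creg P) ℂ]
  refine Nat.card_congr
    { toFun := fun l => (QuotientGroup.lift (creg P) l.1 (fun v hv => l.2 v hv)).toHomUnits
      invFun := fun μ => ⟨(Units.coeHom ℂ).comp (μ.comp (QuotientGroup.mk' (creg P))),
        fun v hv => by
          simp only [MonoidHom.comp_apply, QuotientGroup.mk'_apply,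
            (QuotientGroup.eq_one_iff v).2 hv, map_one]⟩
      left_inv := fun l => Subtype.ext (MonoidHom.ext fun c => rfl)
      right_inv := fun μ => by
        refine MonoidHom.ext fun x => ?_
        obtain ⟨c, rfl⟩ := QuotientGroup.mk_surjective x
        exact Units.ext rfl }

theorem finite_tw (hs : Star P) : Finite (Tw P) :=
  Nat.finite_of_card_ne_zero (by rw [card_tw hs]; exact Nat.card_pos.ne')

theorem isIrr_tw (l : cen P →* ℂ) (ξ : IrrCharacter (cen P)) :
    IsIrrCharacter (cen P) (fun c => l c * ξ.1 c) := by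
  refine isIrrCharacter_iff.2 ⟨IsCharacter.mul
    (IsIrrCharacter.isCharacter (isIrrCharacter_of_monoidHom l)) (irr_isCharacter ξ), ?_⟩
  refine (Eq.trans ?_ (classInner_irr_self ξ.2))
  simp only [classInner, map_mul]
  congr 1
  refine Finset.sum_congr rfl fun c _ => ?_
  linear_combination (ξ.1 c * conj (ξ.1 c)) * hom_mul_conj l c

/-- The twist of `ξ` by `l`. -/
noncomputable def tw (l : Tw P) (ξ : IrrCharacter (cen P)) : IrrCharacter (cen P) :=
  ⟨fun c => l.1 c * ξ.1 c, isIrr_tw l.1 ξ⟩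

theorem lam_tw (hs : Star P) (l : Tw P) (ξ : IrrCharacter (cen P)) (a : (P : Subgroup G)) :
    lam hs (tw l ξ) a = l.1 ⟨(a : G), le_cen hs a.2⟩ * lam hs ξ a := by
  show l.1 _ * ξ.1 _ / (l.1 1 * ξ.1 1) = l.1 _ * (ξ.1 _ / ξ.1 1)
  rw [map_one, one_mul, mul_div_assoc]

theorem tw_eq_on_creg (l : Tw P) (ξ : IrrCharacter (cen P)) {v : cen P} (hv : v ∈ creg P) :
    (tw l ξ).1 v = ξ.1 v := by
  show l.1 v * ξ.1 v = ξ.1 v
  rw [l.2 v hv, one_mul]

theorem lam_tw_injective (hs : Star P) (ξ : IrrCharacter (cen P)) :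
    Function.Injective (fun l : Tw P => lam hs (tw l ξ)) := by
  intro l l' h
  refine Tw.ext_P hs fun a => ?_
  have := DFunLike.congr_fun h a
  simp only [lam_tw] at this
  refine mul_right_cancel₀ (left_ne_zero_of_mul_eq_one (hom_mul_conj (lam hs ξ) a)) this

theorem tw_injective (hs : Star P) (ξ : IrrCharacter (cen P)) :
    Function.Injective (fun l : Tw P => tw l ξ) :=
  fun l l' h => lam_tw_injective hs ξ (congrArg (lam hs) h)

/-- The twists sum to zero outside the regular part. -/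
theorem sum_tw_eq_zero (hs : Star P) [Fintype (Tw P)] {c : cen P} (hc : c ∉ creg P) :
    ∑ l : Tw P, conj (l.1 c) = 0 := by
  haveI : (creg P).Normal := Transfer.pResidual_normal p
  obtain ⟨l0, hl0⟩ : ∃ l0 : Tw P, l0.1 c ≠ 1 := by
    letI : CommGroup (cen P ⧸ creg P) :=
      { (inferInstance : Group (cen P ⧸ creg P)) with
        mul_comm := fun x y => by
          obtain ⟨a, rfl⟩ := surjective_mk hs x
          obtain ⟨b, rfl⟩ := surjective_mk hs y
          simp only [← QuotientGroup.mk_mul]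
          exact congrArg _ (centralC hs a _) }
    haveI : NeZero (Monoid.exponent (cen P ⧸ creg P)) := ⟨Monoid.exponent_ne_zero_of_finite⟩
    haveI : NeZero ((Monoid.exponent (cen P ⧸ creg P) : ℕ) : ℂ) :=
      ⟨Nat.cast_ne_zero.2 Monoid.exponent_ne_zero_of_finite⟩
    obtain ⟨μ, hμ⟩ := CommGroup.exists_apply_ne_one_of_hasEnoughRootsOfUnity (cen P ⧸ creg P) ℂ
      (a := (c : cen P ⧸ creg P)) (fun h => hc ((QuotientGroup.eq_one_iff c).1 h))
    exact ⟨⟨(Units.coeHom ℂ).comp (μ.comp (QuotientGroup.mk' (creg P))), fun v hv => by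
      simp only [MonoidHom.comp_apply, QuotientGroup.mk'_apply,
        (QuotientGroup.eq_one_iff v).2 hv, map_one]⟩,
      fun h => hμ (Units.ext (by simpa using h))⟩
  let m : Tw P → Tw P := fun l => ⟨l0.1 * l.1, fun v hv => by
    rw [MonoidHom.mul_apply, l0.2 v hv, l.2 v hv, one_mul]⟩
  have hm : Function.Bijective m := Finite.injective_iff_bijective.1 fun l l' h => by
    refine Tw.ext_P hs fun a => ?_
    exact mul_left_cancel₀ (left_ne_zero_of_mul_eq_one (hom_mul_conj l0.1 _))
      (DFunLike.congr_fun (congrArg Subtype.val h) _)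
  have h := Fintype.sum_bijective m hm (fun l => conj (l0.1 c) * conj (l.1 c))
    (fun l => conj (l.1 c)) (fun l => (map_mul (starRingEnd ℂ) _ _).symm)
  rw [← Finset.mul_sum] at h
  by_contra hne
  refine hl0 ?_
  have h1 : conj (l0.1 c) = 1 := mul_right_cancel₀ hne (h.trans (one_mul _).symm)
  simpa using congrArg conj h1

/-! ### Conjugation by the normalizer -/

theorem isIrr_cj (x : nor P) (ξ : IrrCharacter (cen P)) :
    IsIrrCharacter (cen P)
      (fun c => ξ.1 (Subgroup.normalizerMonoidHom (cen P) x⁻¹ c)) :=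
  IsIrrCharacter.comp_surjective ξ.2 (Subgroup.normalizerMonoidHom (cen P) x⁻¹).toMonoidHom
    (Subgroup.normalizerMonoidHom (cen P) x⁻¹).surjective

/-- The conjugate of a character of `C` by an element of `N`. -/
noncomputable def cj (x : nor P) (ξ : IrrCharacter (cen P)) : IrrCharacter (cen P) :=
  ⟨fun c => ξ.1 (Subgroup.normalizerMonoidHom (cen P) x⁻¹ c), isIrr_cj x ξ⟩

theorem cj_apply (x : nor P) (ξ : IrrCharacter (cen P)) (c : cen P) :
    (cj x ξ).1 c = ξ.1 (Subgroup.normalizerMonoidHom (cen P) x⁻¹ c) := rfl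

theorem coe_normalizerHom (x : nor P) (c : cen P) :
    (Subgroup.normalizerMonoidHom (cen P) x c : G) = (x : G) * c * (x : G)⁻¹ := rfl

theorem cj_mul (x y : nor P) (ξ : IrrCharacter (cen P)) : cj (x * y) ξ = cj x (cj y ξ) :=
  Subtype.ext (funext fun c => by
    simp only [cj_apply]
    rw [mul_inv_rev, map_mul]
    rfl)

theorem cj_of_mem (x : nor P) (hx : (x : G) ∈ cen P) (ξ : IrrCharacter (cen P)) : cj x ξ = ξ :=
  Subtype.ext (funext fun c => by
    rw [cj_apply, show Subgroup.normalizerMonoidHom (cen P) x⁻¹ c =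
      (⟨(x : G), hx⟩ : cen P)⁻¹ * c * (⟨(x : G), hx⟩ : cen P)⁻¹⁻¹ from Subtype.ext rfl]
    exact IsCharacter.isClassFunction (irr_isCharacter ξ) c _)

theorem lam_cj (hs : Star P) (x : nor P) (ξ : IrrCharacter (cen P)) (a : (P : Subgroup G)) :
    lam hs (cj x ξ) a = lam hs ξ ⟨(x⁻¹ : nor P) * (a : G) * ((x⁻¹ : nor P) : G)⁻¹,
      conj_mem_P hs (x⁻¹).2 a.2⟩ := by
  show (cj x ξ).1 _ / (cj x ξ).1 1 = ξ.1 _ / ξ.1 1
  rw [cj_apply, cj_apply, map_one]
  rfl

theorem lam_cj_congr (hs : Star P) (x : nor P) {ξ κ : IrrCharacter (cen P)}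
    (h : lam hs ξ = lam hs κ) : lam hs (cj x ξ) = lam hs (cj x κ) :=
  MonoidHom.ext fun a => by rw [lam_cj, lam_cj, h]

theorem lam_cj_eq_one_iff (hs : Star P) (x : nor P) (ξ : IrrCharacter (cen P)) :
    lam hs (cj x ξ) = 1 ↔ lam hs ξ = 1 := by
  have key : ∀ (y : nor P) (ζ : IrrCharacter (cen P)), lam hs ζ = 1 → lam hs (cj y ζ) = 1 :=
    fun y ζ h => MonoidHom.ext fun a => by rw [lam_cj, h, MonoidHom.one_apply, MonoidHom.one_apply]
  refine ⟨fun h => ?_, key x ξ⟩
  have := key x⁻¹ _ h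
  rwa [← cj_mul, inv_mul_cancel, cj_of_mem 1 (Subgroup.one_mem _)] at this

/-- `N / C` acts semiregularly on the characters non-trivial on `P`. -/
theorem mem_cen_of_cj_eq (hs : Star P) {ξ : IrrCharacter (cen P)} (hl : lam hs ξ ≠ 1)
    {x : nor P} (h : cj x ξ = ξ) : (x : G) ∈ cen P := by
  by_contra hxC
  refine hl (MonoidHom.ext (eq_one_of_fixed hs (x⁻¹).2 ?_ (lam hs ξ) fun a => ?_))
  · rwa [Subgroup.coe_inv, inv_mem_iff]
  · conv_rhs => rw [← h]
    rw [lam_cj]

/-- The orbit of a character of `C` under `N`. -/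
noncomputable def orb (ξ : IrrCharacter (cen P)) : Finset (IrrCharacter (cen P)) :=
  Finset.univ.image fun x : nor P => cj x ξ

theorem mem_orb_self (ξ : IrrCharacter (cen P)) : ξ ∈ orb ξ :=
  Finset.mem_image.2 ⟨1, Finset.mem_univ _, cj_of_mem 1 (Subgroup.one_mem _) ξ⟩

theorem card_orb_mul (hs : Star P) {ξ : IrrCharacter (cen P)} (hl : lam hs ξ ≠ 1) :
    (orb ξ).card * Nat.card (cen P) = Nat.card (nor P) := by
  rw [Nat.card_eq_fintype_card (α := nor P), ← Finset.card_univ,
    Finset.card_eq_sum_card_image (fun x : nor P => cj x ξ) Finset.univ]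
  show _ = ∑ b ∈ orb ξ, _
  rw [Finset.sum_const_nat fun b hb => ?_]
  obtain ⟨y, -, rfl⟩ := Finset.mem_image.1 hb
  rw [Nat.card_eq_fintype_card, ← Finset.card_univ]
  refine Finset.card_bij' (fun x hx => ⟨((y⁻¹ * x : nor P) : G), ?_⟩)
    (fun c _ => y * ⟨(c : G), cen_le_nor c.2⟩) (fun x hx => Finset.mem_univ _) (fun c _ => ?_)
    (fun x hx => Subtype.ext (mul_inv_cancel_left (y : G) x)) (fun c _ => Subtype.ext (inv_mul_cancel_left (y : G) c))
  · refine mem_cen_of_cj_eq hs hl ?_
    rw [cj_mul, (Finset.mem_filter.1 hx).2, ← cj_mul, inv_mul_cancel,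
      cj_of_mem 1 (Subgroup.one_mem _)]
  · simp only [Finset.mem_filter, Finset.mem_univ, true_and]
    rw [cj_mul, cj_of_mem _ (show ((⟨(c : G), cen_le_nor c.2⟩ : nor P) : G) ∈ cen P from c.2)]

end Cfsg.Agent.TICent
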