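import Cfsg.Agent.Lib.TICent.Norm

/-!
# Small irreducible characters when all elements of `P#` have the centralizer `C_G(P)`

If no proper normal subgroup contains `P` and a non-trivial irreducible character has degree `f`
with `f ^ 2 + 1 < |P|`, then `N_G(P) = C_G(P)` and `f = 1`.
-/

set_option linter.unusedSectionVars false
set_option linter.style.haveILetI false

namespace Cfsg.Agent.TICent

open Cfsg Cfsg.Agent.Char
open scoped ComplexConjugate Classical

universe u

variable {G : Type u} [Group G] [Fintype G] {p : ℕ} [Fact p.Prime] {P : Sylow p G}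

/-- No proper normal subgroup contains `P`. -/
def NoProper (P : Sylow p G) : Prop :=
  ∀ K : Subgroup G, K.Normal → (P : Subgroup G) ≤ K → K = ⊤

theorem exists_L (hs : Star P) (hno : NoProper P) {η : IrrCharacter G}
    (hη : η ≠ trivialChar G) : ∃ ρ : IrrCharacter (cen P), nm η.1 ρ ≠ 0 ∧ lam hs ρ ≠ 1 := by
  refine (exists_nontrivial_constituent hs (irr_isCharacter η)).resolve_left fun hker => hη ?_
  have hK := hno (CharInt.charKernel (irr_isCharacter η)) (CharInt.charKernel_normal _) hker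
  have hconst : ∀ g : G, η.1 g = η.1 1 := fun g =>
    (CharInt.mem_charKernel (irr_isCharacter η)).1 (hK ▸ Subgroup.mem_top g)
  have h1 := classInner_irr_self η.2
  rw [classInner, Finset.sum_congr rfl (fun g _ => by rw [hconst g]), Finset.sum_const,
    Finset.card_univ, nsmul_eq_mul, Nat.card_eq_fintype_card, ← mul_assoc,
    inv_mul_cancel₀ (Nat.cast_ne_zero.2 Fintype.card_ne_zero), one_mul, apply_one_eq_degree,
    Complex.conj_natCast] at h1
  have hd : degree η * degree η = 1 := by exact_mod_cast h1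
  refine Subtype.ext (funext fun g => ?_)
  show η.1 g = 1
  rw [hconst g, apply_one_eq_degree, Nat.eq_one_of_mul_eq_one_right hd, Nat.cast_one]

theorem nm_decomp {X : G → ℂ} (hX : IsCharacter G X) {a : IrrCharacter G → ℕ}
    (ha : X = ∑ η, (a η : ℂ) • η.1) (ρ : IrrCharacter (cen P)) :
    nm X ρ = ∑ η : IrrCharacter G, a η * nm η.1 ρ := by
  have h := nm_spec hX ρ
  have he : res P X = ∑ η : IrrCharacter G, (a η : ℂ) • res P η.1 := by
    funext c
    conv_lhs => rw [ha]
    simp [res]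
  rw [he, classInner_sum_left] at h
  simp only [classInner_smul_left, nm_spec (irr_isCharacter _)] at h
  exact_mod_cast h.symm

theorem res_eq_orb (η : IrrCharacter G) {ξ : IrrCharacter (cen P)}
    (h : ∀ ρ : IrrCharacter (cen P), nm η.1 ρ = if ρ ∈ orb ξ then 1 else 0) :
    res P η.1 = ∑ ρ ∈ orb ξ, ρ.1 := by
  rw [res_eq_sum (irr_isCharacter η)]
  refine (Finset.sum_subset (Finset.subset_univ (orb ξ)) fun ρ _ hρ => ?_).symm.trans
    (Finset.sum_congr rfl fun ρ hρ => ?_)
  · rw [h, if_neg hρ, Nat.cast_zero, zero_smul]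
  · rw [h, if_pos hρ, Nat.cast_one, one_smul]

/-- With no proper normal subgroup above `P`, the orbit of a small character is a single point. -/
theorem card_orb_eq_one (hs : Star P) (hno : NoProper P) (ψ : IrrCharacter G) {f : ℕ}
    (hf : ψ.1 1 = f) (hfq : f ^ 2 + 1 < Nat.card (P : Subgroup G)) {ξ₀ : IrrCharacter (cen P)}
    (hξ₀ : nm ψ.1 ξ₀ ≠ 0) (hl₀ : lam hs ξ₀ ≠ 1) : (orb ξ₀).card = 1 := by
  by_contra hcon
  haveI := finite_tw hs
  haveI := Fintype.ofFinite (Tw P)
  set q := Nat.card (P : Subgroup G) with hq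
  have hqT : Fintype.card (Tw P) = q := by rw [← Nat.card_eq_fintype_card, card_tw hs]
  set O := orb ξ₀ with hO
  have hcard0 : 0 < O.card := Finset.card_pos.2 ⟨ξ₀, mem_orb_self ξ₀⟩
  have ht : 2 ≤ O.card := by omega
  have hind := nm_eq_of_small hs ψ hf (by omega) hξ₀ hl₀
  have hOf : O.card ≤ f := card_le_degree (irr_isCharacter ψ) hf O fun ρ hρ => by
    rw [hind, if_pos hρ]; exact one_ne_zero
  have hf2 : f ≤ f ^ 2 := Nat.le_self_pow two_ne_zero f
  -- a twist `κ` of `ξ₀` in another orbit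
  obtain ⟨l₀, hl⟩ : ∃ l : Tw P, lam hs (tw l ξ₀) ∉ insert 1 (O.image (lam hs)) := by
    by_contra h
    push Not at h
    have := Finset.card_le_card_of_injOn (fun l : Tw P => lam hs (tw l ξ₀)) (s := Finset.univ)
      (fun l _ => h l) (lam_tw_injective hs ξ₀).injOn
    rw [Finset.card_univ, hqT] at this
    have h2 := (Finset.card_insert_le (1 : (P : Subgroup G) →* ℂ) (O.image (lam hs))).trans
      (Nat.add_le_add_right Finset.card_image_le 1)
    omega
  set κ := tw l₀ ξ₀ with hκdef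
  simp only [Finset.mem_insert, Finset.mem_image, not_or, not_exists, not_and] at hl
  have hlκ : lam hs κ ≠ 1 := hl.1
  have hdisj : ∀ σ ∈ O, ∀ τ ∈ orb κ, lam hs σ ≠ lam hs τ := by
    intro σ hσ τ hτ he
    obtain ⟨x, -, rfl⟩ := Finset.mem_image.1 hσ
    obtain ⟨y, -, rfl⟩ := Finset.mem_image.1 hτ
    have h := lam_cj_congr hs y⁻¹ he
    rw [← cj_mul, ← cj_mul, inv_mul_cancel, cj_of_mem 1 (Subgroup.one_mem _)] at h
    exact hl.2 _ (Finset.mem_image.2 ⟨y⁻¹ * x, Finset.mem_univ _, rfl⟩) h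
  have hκO : κ ∉ O := fun h => hdisj κ h κ (mem_orb_self κ) rfl
  have hκV : ∀ v ∈ creg P, ξ₀.1 v = κ.1 v := fun v hv => (tw_eq_on_creg l₀ ξ₀ hv).symm
  set θ₀ := indFun (cen P) (ξ₀.1 - κ.1) with hθ₀
  have hcoef : ∀ χ : IrrCharacter G, classInner θ₀ χ.1 = (nm χ.1 ξ₀ : ℂ) - (nm χ.1 κ : ℂ) := by
    intro χ
    rw [← conj_classInner, hθ₀, classInner_indFun_eq (irr_isCharacter χ), map_sub, map_natCast,
      map_natCast]
  have hψc : classInner θ₀ ψ.1 = 1 := by
    rw [hcoef, hind, hind, if_pos (mem_orb_self ξ₀), if_neg hκO]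
    simp
  obtain ⟨ψ', hne', hθeq, hdeg', -⟩ := two_coeff (isGen_indFun ξ₀ κ)
    (classInner_indFun_self hs hκV hl₀ hlκ hκO) (indFun_one_eq_zero hs hκV) (η := ψ)
    (by rw [← hθ₀, hψc]; exact one_ne_zero)
  have hθψ : θ₀ = ψ.1 - ψ'.1 := by
    refine hθeq.resolve_right fun h => ?_
    have h' := hψc
    rw [hθ₀, h, classInner_sub_left, classInner_irr, classInner_irr, if_neg hne',
      if_pos rfl] at h'
    norm_num at h'
  have hψ'c : classInner θ₀ ψ'.1 = -1 := by
    rw [hθψ, classInner_sub_left, classInner_irr, classInner_irr, if_neg (Ne.symm hne'),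
      if_pos rfl, zero_sub]
  have hκ' : nm ψ'.1 κ ≠ 0 := by
    intro h
    rw [hcoef, h, Nat.cast_zero, sub_zero] at hψ'c
    have h2 := congrArg Complex.re hψ'c
    rw [Complex.natCast_re, Complex.neg_re, Complex.one_re] at h2
    linarith [(Nat.cast_nonneg (nm ψ'.1 ξ₀) : (0 : ℝ) ≤ _)]
  have hind' := nm_eq_of_small hs ψ' (hdeg'.trans hf) (by omega) hκ' hlκ
  have hVeq : ∀ v ∈ creg P, ψ.1 (v : G) = ψ'.1 (v : G) := by
    intro v hv
    have := indFun_creg hs (φ := ξ₀.1 - κ.1)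
      (fun w hw => by rw [Pi.sub_apply, hκV w hw, sub_self]) hv
    rw [← hθ₀, hθψ, Pi.sub_apply, sub_eq_zero] at this
    exact this
  -- the products
  set X := ψ.1 * fun g => conj (ψ.1 g) with hXdef
  set X' := ψ.1 * fun g => conj (ψ'.1 g) with hX'def
  have hX : IsCharacter G X :=
    IsCharacter.mul (irr_isCharacter ψ) (IsCharacter.conj (irr_isCharacter ψ))
  have hX' : IsCharacter G X' :=
    IsCharacter.mul (irr_isCharacter ψ) (IsCharacter.conj (irr_isCharacter ψ'))
  have hX1 : X 1 = ((f ^ 2 : ℕ) : ℂ) := by simp [X, hf, sq]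
  have hX'1 : X' 1 = ((f ^ 2 : ℕ) : ℂ) := by simp [X', hdeg', hf, sq]
  obtain ⟨a, ha, ha'⟩ := IsCharacter.exists_decomp hX
  obtain ⟨a', ha'', -⟩ := IsCharacter.exists_decomp hX'
  have hprod : ∀ χ : IrrCharacter G,
      classInner (res P (ψ.1 * fun g => conj (χ.1 g))) (one' P).1 =
        ∑ ρ : IrrCharacter (cen P), (nm ψ.1 ρ : ℂ) * (nm χ.1 ρ : ℂ) := by
    intro χ
    have e : classInner (res P (ψ.1 * fun g => conj (χ.1 g))) (one' P).1 =
        classInner (res P ψ.1) (res P χ.1) := by simp [classInner, res]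
    rw [e, classInner_eq_sum (f := res P ψ.1)
      (IsCharacter.isClassFunction (IsCharacter.restrict (irr_isCharacter ψ) (cen P)))]
    refine Finset.sum_congr rfl fun ρ _ => ?_
    rw [← conj_classInner (res P χ.1) ρ.1, nm_spec (irr_isCharacter ψ),
      nm_spec (irr_isCharacter χ), map_natCast]
  have hXone : nm X (one' P) = O.card := by
    have h := hprod ψ
    rw [← hXdef, nm_spec hX] at h
    simp only [hind, Nat.cast_ite, Nat.cast_one, Nat.cast_zero, ite_mul, one_mul, zero_mul,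
      Finset.sum_ite_mem, Finset.univ_inter] at h
    rw [Finset.inter_self, Finset.sum_const, nsmul_eq_mul, mul_one] at h
    exact_mod_cast h
  have hR' : ∀ ρ : IrrCharacter (cen P), lam hs ρ = 1 → nm X' ρ = 0 := by
    intro ρ hρ
    have h := nm_spec (P := P) hX' ρ
    have e : res P X' = ∑ σ ∈ O, ∑ τ ∈ orb κ, fun c => σ.1 c * conj (τ.1 c) := by
      funext c
      show res P ψ.1 c * conj (res P ψ'.1 c) = _
      rw [res_eq_orb ψ hind, res_eq_orb ψ' hind']
      simp [Finset.sum_mul_sum, map_sum, O]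
    rw [e, classInner_sum_left] at h
    rw [Finset.sum_eq_zero fun σ hσ => ?_] at h
    · exact_mod_cast h.symm
    rw [classInner_sum_left]
    refine Finset.sum_eq_zero fun τ hτ => ?_
    obtain ⟨b, hb⟩ : ∃ b, lam hs σ b ≠ lam hs τ b := by
      by_contra hb
      push Not at hb
      exact hdisj σ hσ τ hτ (MonoidHom.ext hb)
    refine orth_of_scalar (a := ⟨(b : G), le_cen hs b.2⟩)
      (α := lam hs σ b * conj (lam hs τ b)) (β := 1) (fun c => ?_) (fun c => ?_) (by simp) ?_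
    · rw [lam_spec hs, lam_spec hs, map_mul]; ring
    · rw [lam_spec hs, hρ, MonoidHom.one_apply]
    · intro he
      refine hb ?_
      calc lam hs σ b = lam hs σ b * (lam hs τ b * conj (lam hs τ b)) := by
            rw [hom_mul_conj, mul_one]
        _ = lam hs τ b := by rw [mul_left_comm, he, mul_one]
  -- a constituent of `X` whose restriction contains the trivial character
  have ha1 : a (trivialChar G) = 1 := by
    have h := ha' (trivialChar G)
    have e : classInner X (trivialChar G).1 = classInner ψ.1 ψ.1 := by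
      simp [classInner, X, trivialChar]
    rw [e, classInner_irr_self ψ.2] at h
    exact_mod_cast h.symm
  have hone : nm (trivialChar G).1 (one' P) = 1 := by
    have h := nm_spec (irr_isCharacter (trivialChar G)) (one' P)
    have e : classInner (res P (trivialChar G).1) (one' P).1 = 1 :=
      classInner_irr_self (G := cen P) isIrrCharacter_one
    rw [e] at h
    exact_mod_cast h.symm
  obtain ⟨η, hηne, hηa, hη1⟩ : ∃ η : IrrCharacter G,
      η ≠ trivialChar G ∧ a η ≠ 0 ∧ nm η.1 (one' P) ≠ 0 := by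
    by_contra h
    push Not at h
    have e := nm_decomp hX ha (one' P)
    rw [hXone, Finset.sum_eq_single (trivialChar G) (fun η _ hη => ?_) (by simp), ha1, hone] at e
    · omega
    by_cases h0 : a η = 0
    · rw [h0, zero_mul]
    · rw [h η hη h0, mul_zero]
  obtain ⟨ξ₁, hξ₁, hl₁⟩ := exists_L hs hno hηne
  have hdle : ∀ {Y : G → ℂ} {b : IrrCharacter G → ℕ}, Y 1 = ((f ^ 2 : ℕ) : ℂ) →
      Y = ∑ χ, (b χ : ℂ) • χ.1 → ∀ χ, b χ ≠ 0 → degree χ ≤ f ^ 2 := by
    intro Y b hY hb χ hχ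
    rw [hb] at hY
    simp only [Finset.sum_apply, Pi.smul_apply, smul_eq_mul, apply_one_eq_degree] at hY
    have h : ∑ ν, b ν * degree ν = f ^ 2 := by exact_mod_cast hY
    rw [← h]
    exact le_trans (Nat.le_mul_of_pos_left _ (Nat.pos_of_ne_zero hχ))
      (Finset.single_le_sum (f := fun ν => b ν * degree ν) (fun _ _ => Nat.zero_le _)
        (Finset.mem_univ χ))
  -- the same twist class occurs in `X'`
  have hsum : ∑ l : Tw P, nm X (tw l ξ₁) = ∑ l : Tw P, nm X' (tw l ξ₁) := by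
    have key : ∀ {Y : G → ℂ}, IsCharacter G Y → ((∑ l : Tw P, nm Y (tw l ξ₁) : ℕ) : ℂ) =
        (Nat.card (cen P) : ℂ)⁻¹ *
          ∑ c : cen P, Y (c : G) * conj (ξ₁.1 c) * ∑ l : Tw P, conj (l.1 c) := by
      intro Y hY
      push_cast
      simp only [← nm_spec hY, classInner, res, tw, map_mul, Finset.mul_sum]
      rw [Finset.sum_comm]
      exact Finset.sum_congr rfl fun c _ => Finset.sum_congr rfl fun l _ => by ring
    have h : ((∑ l : Tw P, nm X (tw l ξ₁) : ℕ) : ℂ) = ((∑ l : Tw P, nm X' (tw l ξ₁) : ℕ) : ℂ) := by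
      rw [key hX, key hX']
      congr 1
      refine Finset.sum_congr rfl fun c _ => ?_
      by_cases hc : c ∈ creg P
      · simp [X, X', hVeq c hc]
      · rw [sum_tw_eq_zero hs hc, mul_zero, mul_zero]
    exact_mod_cast h
  let l1 : Tw P := ⟨1, fun _ _ => rfl⟩
  have htw1 : tw l1 ξ₁ = ξ₁ := Subtype.ext (funext fun c => one_mul _)
  obtain ⟨l', hl'⟩ : ∃ l : Tw P, nm X' (tw l ξ₁) ≠ 0 := by
    by_contra h
    push Not at h
    rw [Finset.sum_eq_zero (f := fun l : Tw P => nm X' (tw l ξ₁)) fun l _ => h l,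
      Finset.sum_eq_zero_iff] at hsum
    have h0 := hsum l1 (Finset.mem_univ _)
    rw [htw1, nm_decomp hX ha, Finset.sum_eq_zero_iff] at h0
    exact mul_ne_zero hηa hξ₁ (h0 η (Finset.mem_univ _))
  have hl'L : lam hs (tw l' ξ₁) ≠ 1 := fun h => hl' (hR' _ h)
  obtain ⟨η', hη'a, hη'm⟩ : ∃ η' : IrrCharacter G, a' η' ≠ 0 ∧ nm η'.1 (tw l' ξ₁) ≠ 0 := by
    by_contra h
    push Not at h
    refine hl' ((nm_decomp hX' ha'' _).trans (Finset.sum_eq_zero fun χ _ => ?_))
    by_cases h0 : a' χ = 0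
    · rw [h0, zero_mul]
    · rw [h χ h0, mul_zero]
  have hη'1 : nm η'.1 (one' P) = 0 := by
    have h := (nm_decomp hX' ha'' (one' P)).symm.trans (hR' _ (lam_one hs))
    exact (mul_eq_zero.1 ((Finset.sum_eq_zero_iff.1 h) η' (Finset.mem_univ _))).resolve_left hη'a
  -- twists missing in `η` and in `η'`
  set T := Finset.univ.filter fun l : Tw P => lam hs (tw l ξ₁) ≠ 1 with hT
  have hTc : q ≤ T.card + 1 := by
    have h1 := Finset.card_filter_add_card_filter_not (s := (Finset.univ : Finset (Tw P)))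
      (fun l => lam hs (tw l ξ₁) ≠ 1)
    have h2 : (Finset.univ.filter fun l : Tw P => ¬ lam hs (tw l ξ₁) ≠ 1).card ≤ 1 :=
      Finset.card_le_one.2 fun x hx y hy => lam_tw_injective hs ξ₁
        ((not_not.1 (Finset.mem_filter.1 hx).2).trans (not_not.1 (Finset.mem_filter.1 hy).2).symm)
    rw [Finset.card_univ, hqT, ← hT] at h1
    omega
  obtain ⟨l₂, hl₂, hl₂0⟩ : ∃ l ∈ T, nm η.1 (tw l ξ₁) = 0 := by
    by_contra h
    push Not at h
    have h1 := card_le_degree (irr_isCharacter η) (apply_one_eq_degree η)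
      (insert (one' P) (T.image fun l => tw l ξ₁)) (fun ρ hρ => ?_)
    · rw [Finset.card_insert_of_notMem (fun hmem => ?_),
        Finset.card_image_of_injective _ (tw_injective hs ξ₁)] at h1
      · have := hdle hX1 ha η hηa
        omega
      obtain ⟨l, hlT, hle⟩ := Finset.mem_image.1 hmem
      exact (Finset.mem_filter.1 hlT).2 (hle ▸ lam_one hs)
    rcases Finset.mem_insert.1 hρ with rfl | hρ
    · exact hη1
    · obtain ⟨l, hlT, rfl⟩ := Finset.mem_image.1 hρ
      exact h l hlT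
  obtain ⟨l₃, hl₃, hl₃0⟩ : ∃ l ∈ T, nm η'.1 (tw l ξ₁) = 0 := by
    by_contra h
    push Not at h
    have h1 := card_le_degree (irr_isCharacter η') (apply_one_eq_degree η')
      (T.image fun l => tw l ξ₁) (fun ρ hρ => ?_)
    · rw [Finset.card_image_of_injective _ (tw_injective hs ξ₁)] at h1
      have := hdle hX'1 ha'' η' hη'a
      omega
    · obtain ⟨l, hlT, rfl⟩ := Finset.mem_image.1 hρ
      exact h l hlT
  have hl1T : l1 ∈ T := Finset.mem_filter.2 ⟨Finset.mem_univ _, by rwa [htw1]⟩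
  have hl'T : l' ∈ T := Finset.mem_filter.2 ⟨Finset.mem_univ _, hl'L⟩
  have hx1 : nm η.1 (tw l1 ξ₁) ≠ 0 := by rwa [htw1]
  obtain ⟨z, hz, w, hw, hd, hd'⟩ : ∃ z ∈ T, ∃ w ∈ T, nm η.1 (tw z ξ₁) ≠ nm η.1 (tw w ξ₁) ∧
      nm η'.1 (tw z ξ₁) ≠ nm η'.1 (tw w ξ₁) := by
    by_cases h1 : nm η'.1 (tw l1 ξ₁) = nm η'.1 (tw l₂ ξ₁)
    · by_cases h2 : nm η'.1 (tw l1 ξ₁) = 0
      · by_cases h3 : nm η.1 (tw l' ξ₁) = 0
        · exact ⟨l1, hl1T, l', hl'T, by omega, by omega⟩
        · exact ⟨l', hl'T, l₂, hl₂, by omega, by omega⟩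
      · by_cases h3 : nm η.1 (tw l₃ ξ₁) = 0
        · exact ⟨l1, hl1T, l₃, hl₃, by omega, by omega⟩
        · exact ⟨l₃, hl₃, l₂, hl₂, by omega, by omega⟩
    · exact ⟨l1, hl1T, l₂, hl₂, by omega, h1⟩
  have hzV : ∀ v ∈ creg P, (tw z ξ₁).1 v = (tw w ξ₁).1 v := fun v hv =>
    (tw_eq_on_creg z ξ₁ hv).trans (tw_eq_on_creg w ξ₁ hv).symm
  have hzw : tw w ξ₁ ∉ orb (tw z ξ₁) := fun h => hd (nm_orb (irr_isCharacter η) h).symm
  have hlz := (Finset.mem_filter.1 hz).2
  have hlw := (Finset.mem_filter.1 hw).2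
  set θ := indFun (cen P) ((tw z ξ₁).1 - (tw w ξ₁).1) with hθ
  have hc : ∀ χ : IrrCharacter G, classInner θ χ.1 =
      (nm χ.1 (tw z ξ₁) : ℂ) - (nm χ.1 (tw w ξ₁) : ℂ) := by
    intro χ
    rw [← conj_classInner, hθ, classInner_indFun_eq (irr_isCharacter χ), map_sub, map_natCast,
      map_natCast]
  obtain ⟨η'', -, hθeq2, -, huniq⟩ := two_coeff (isGen_indFun (tw z ξ₁) (tw w ξ₁))
    (classInner_indFun_self hs hzV hlz hlw hzw) (indFun_one_eq_zero hs hzV) (η := η)
    (by rw [← hθ, hc, sub_ne_zero]; exact_mod_cast hd)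
  have hη'eq : η' = η'' := huniq η' (fun e => hη1 (e ▸ hη'1))
    (by rw [← hθ, hc, sub_ne_zero]; exact_mod_cast hd')
  subst hη'eq
  have hzero : classInner (res P θ) (one' P).1 = 0 := by
    rw [← conj_classInner, hθ, classInner_indFun_cen hs _ hzV, Finset.sum_eq_zero fun x _ => ?_,
      mul_zero, map_zero]
    have n1 : (one' P).1 ≠ (cj x (tw z ξ₁)).1 := fun e => hlz ((lam_cj_eq_one_iff hs x _).1
      (by rw [← Subtype.ext e, lam_one]))
    have n2 : (one' P).1 ≠ (cj x (tw w ξ₁)).1 := fun e => hlw ((lam_cj_eq_one_iff hs x _).1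
      (by rw [← Subtype.ext e, lam_one]))
    rw [classInner_irr_of_ne (one' P).2 (cj x (tw z ξ₁)).2 n1,
      classInner_irr_of_ne (one' P).2 (cj x (tw w ξ₁)).2 n2, sub_zero]
  have hres : ∀ χ χ' : IrrCharacter G, classInner (res P (χ.1 - χ'.1)) (one' P).1 =
      (nm χ.1 (one' P) : ℂ) - (nm χ'.1 (one' P) : ℂ) := fun χ χ' => by
    rw [show res P (χ.1 - χ'.1) = res P χ.1 - res P χ'.1 from rfl, classInner_sub_left,
      nm_spec (irr_isCharacter χ), nm_spec (irr_isCharacter χ')]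
  rcases hθeq2 with e | e <;> rw [hθ, e, hres, hη'1] at hzero <;> simp [hη1] at hzero

/-- The main lemma. -/
theorem core (hs : Star P) (hno : NoProper P) (ψ : IrrCharacter G) (hψ : ψ ≠ trivialChar G)
    {f : ℕ} (hf : ψ.1 1 = f) (hfq : f ^ 2 + 1 < Nat.card (P : Subgroup G)) :
    Subgroup.normalizer ((P : Subgroup G) : Set G) ≤
      Subgroup.centralizer ((P : Subgroup G) : Set G) ∧ f = 1 := by
  obtain ⟨ξ, hξ, hl⟩ := exists_L hs hno hψ
  have h1 := card_orb_eq_one hs hno ψ hf hfq hξ hl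
  have hN : cen P = nor P := by
    refine Subgroup.eq_of_le_of_card_ge cen_le_nor ?_
    rw [← card_orb_mul hs hl, h1, one_mul]
  refine ⟨fun x hx => ?_, ?_⟩
  · show x ∈ cen P
    rw [hN, nor, Subgroup.mem_normalizer_iff]
    intro c
    rw [Subgroup.mem_normalizer_iff] at hx
    simp only [cen, Subgroup.mem_centralizer_iff]
    constructor
    · intro hc a ha
      have h' : x⁻¹ * a * x ∈ (P : Subgroup G) :=
        (hx _).2 (by rw [show x * (x⁻¹ * a * x) * x⁻¹ = a by group]; exact ha)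
      have := hc _ h'
      calc a * (x * c * x⁻¹) = x * (x⁻¹ * a * x * c) * x⁻¹ := by group
        _ = x * (c * (x⁻¹ * a * x)) * x⁻¹ := by rw [this]
        _ = x * c * x⁻¹ * a := by group
    · intro hc a ha
      have := hc _ ((hx a).1 ha)
      calc a * c = x⁻¹ * (x * a * x⁻¹ * (x * c * x⁻¹)) * x := by group
        _ = x⁻¹ * (x * c * x⁻¹ * (x * a * x⁻¹)) * x := by rw [this]
        _ = c * a := by group
  have hind := nm_eq_of_small hs ψ hf (by omega) hξ hl
  have horb : orb ξ = {ξ} := by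
    obtain ⟨σ, hσ⟩ := Finset.card_eq_one.1 h1
    have := mem_orb_self ξ
    rw [hσ, Finset.mem_singleton] at this
    rw [hσ, this]
  have hres := res_eq_orb ψ hind
  rw [horb, Finset.sum_singleton] at hres
  let Z : Subgroup G :=
    { carrier := {g | ‖ψ.1 g‖ = ‖ψ.1 1‖}
      one_mem' := rfl
      mul_mem' := fun {g h} hg hh => by
        simp only [Set.mem_ofPred_eq] at *
        have h0 := congrArg (fun z : ℂ => ‖z‖) (CharInt.char_mul_of_mem_centre
          (irr_isCharacter ψ) hg h)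
        simp only [norm_mul, hg, hh] at h0
        exact mul_right_cancel₀ (norm_ne_zero_iff.2 (IsIrrCharacter.apply_one_ne_zero ψ.2)) h0
      inv_mem' := fun {g} hg => by
        simp only [Set.mem_ofPred_eq] at *
        rw [CharInt.char_inv (irr_isCharacter ψ), RCLike.norm_conj, hg] }
  have hZn : Z.Normal := ⟨fun g hg x => by
    show ‖ψ.1 (x * g * x⁻¹)‖ = ‖ψ.1 1‖
    rw [IsCharacter.isClassFunction (irr_isCharacter ψ) g x]
    exact hg⟩
  have hPZ : (P : Subgroup G) ≤ Z := fun a ha => by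
    show ‖ψ.1 a‖ = ‖ψ.1 1‖
    have e1 : ψ.1 a = ξ.1 ⟨a, le_cen hs ha⟩ := congrFun hres ⟨a, le_cen hs ha⟩
    have e2 : ψ.1 1 = ξ.1 1 := congrFun hres 1
    have e3 := lam_spec hs ξ ⟨a, ha⟩ 1
    rw [mul_one] at e3
    rw [e1, e2, e3, norm_mul]
    have h := congrArg (fun z : ℂ => ‖z‖) (hom_mul_conj (lam hs ξ) ⟨a, ha⟩)
    simp only [norm_mul, RCLike.norm_conj, norm_one] at h
    have : ‖lam hs ξ ⟨a, ha⟩‖ = 1 := by nlinarith [norm_nonneg (lam hs ξ ⟨a, ha⟩)]
    rw [this, one_mul]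
  have hZtop := hno Z hZn hPZ
  have hall : ∀ g : G, ψ.1 g * conj (ψ.1 g) = ((f : ℂ)) ^ 2 := fun g => by
    have hg : ‖ψ.1 g‖ = ‖ψ.1 1‖ := (hZtop ▸ Subgroup.mem_top g : g ∈ Z)
    rw [Complex.mul_conj', hg, hf, Complex.norm_natCast]
    norm_cast
  have h2 := classInner_irr_self ψ.2
  rw [classInner, Finset.sum_congr rfl (fun g _ => hall g), Finset.sum_const, Finset.card_univ,
    nsmul_eq_mul, Nat.card_eq_fintype_card, ← mul_assoc,
    inv_mul_cancel₀ (Nat.cast_ne_zero.2 Fintype.card_ne_zero), one_mul] at h2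
  have : f ^ 2 = 1 := by exact_mod_cast h2
  exact (Nat.pow_eq_one.1 this).resolve_right two_ne_zero

end Cfsg.Agent.TICent
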